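import Groth.Prelude.Def_ega3
import Mathlib.Algebra.Homology.HomotopyCategory.MappingCone

/-!
# Homotopies for multiplication by scalars on cones of scalars
-/

universe u v w

open CategoryTheory CategoryTheory.Limits CochainComplex CochainComplex.HomComplex

namespace GrothLib.KoszulMod

variable {R : Type w} [CommRing R] {C : Type u} [Category.{v} C] [Preadditive C] [Linear R C]
  [HasBinaryBiproducts C] (K : CochainComplex C ℤ)

theorem ofHom_smul (a : R) {L L' : CochainComplex C ℤ} (φ : L ⟶ L') :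
    Cochain.ofHom (a • φ) = a • Cochain.ofHom φ := by
  ext p
  simp [Cochain.ofHom]

/-- The cone of `f` is killed by `f` up to homotopy. -/
theorem nonempty_homotopy_cone_self (f : R) :
    Nonempty (Homotopy (f • 𝟙 (mappingCone (f • 𝟙 K))) 0) := by
  let φ := f • 𝟙 K
  let z : Cochain (mappingCone φ) (mappingCone φ) (-1) :=
    (mappingCone.snd φ).comp (mappingCone.inl φ) (zero_add _)
  refine ⟨(Cochain.equivHomotopy (f • 𝟙 (mappingCone φ)) 0).symm ⟨z, ?_⟩⟩
  rw [Cochain.ofHom_zero, add_zero, δ_zero_cochain_comp _ _ 0 (by norm_num), mappingCone.δ_inl,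
    mappingCone.δ_snd, ofHom_smul, ← mappingCone.id φ]
  simp only [φ, Cochain.neg_comp, Int.negOnePow_neg, Int.negOnePow_one, Units.neg_smul, one_smul,
    neg_neg, ofHom_smul, Linear.smul_comp, Category.id_comp, Cochain.smul_comp, Cochain.comp_smul,
    Cochain.comp_id, Cochain.id_comp, smul_add]
  abel

/-- A scalar null-homotopic on `K` is null-homotopic on the cone of a scalar. -/
theorem nonempty_homotopy_cone (f a : R) (h : Homotopy (a • 𝟙 K) 0) :
    Nonempty (Homotopy (a • 𝟙 (mappingCone (f • 𝟙 K))) 0) := by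
  let φ := f • 𝟙 K
  obtain ⟨c, hc'⟩ := Cochain.equivHomotopy (a • 𝟙 K) 0 h
  have hc : δ (-1) 0 c = a • Cochain.ofHom (𝟙 K) := by
    rw [Cochain.ofHom_zero, add_zero, ofHom_smul] at hc'
    exact hc'.symm
  let z : Cochain (mappingCone φ) (mappingCone φ) (-1) :=
    (mappingCone.snd φ).comp (c.comp (Cochain.ofHom (mappingCone.inr φ)) (add_zero _)) (zero_add _) -
      (mappingCone.fst φ).1.comp (c.comp (mappingCone.inl φ) (show (-1 : ℤ) + -1 = -2 by norm_num))
        (show (1 : ℤ) + -2 = -1 by norm_num)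
  refine ⟨(Cochain.equivHomotopy (a • 𝟙 (mappingCone φ)) 0).symm ⟨z, ?_⟩⟩
  rw [Cochain.ofHom_zero, add_zero, ofHom_smul, ← mappingCone.id φ, δ_sub,
    δ_zero_cochain_comp _ _ 0 (by norm_num), δ_comp_zero_cochain _ _ 0 (by norm_num),
    δ_comp _ _ _ 2 (-1) 0 (by norm_num) (by norm_num) (by norm_num),
    δ_comp c (mappingCone.inl φ) _ 0 0 (-1) (by norm_num) (by norm_num) (by norm_num),
    mappingCone.δ_inl, mappingCone.δ_snd, δ_ofHom, hc, Cocycle.δ_eq_zero]
  simp only [φ, Cochain.comp_zero, Cochain.zero_comp, smul_zero, add_zero, zero_add, Cochain.neg_comp,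
    Int.negOnePow_neg, Int.negOnePow_one, Units.neg_smul, one_smul, neg_neg, ofHom_smul,
    Linear.smul_comp, Category.id_comp, Cochain.smul_comp, Cochain.comp_smul, Cochain.comp_id,
    Cochain.id_comp, Cochain.comp_neg, Cochain.comp_add, Cochain.comp_sub, smul_add]
  abel

end GrothLib.KoszulMod
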