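import Groth.Prelude.Def_ega3
import Groth.Agent.Lib.KoszulMod.Homotopy
import Mathlib.Algebra.Category.ModuleCat.Abelian
import Mathlib.RingTheory.Regular.RegularSequence

/-!
# The Koszul complex of a module by iterated cones: top cohomology and regular sequences
-/

universe u

open CategoryTheory CategoryTheory.Limits CochainComplex RingTheory.Sequence

namespace GrothLib.KoszulMod

variable {A : Type u} [CommRing A]

section Cone

variable (K : CochainComplex (ModuleCat.{u} A) ℤ) (f : A)

/-- The cone of a scalar. -/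
noncomputable abbrev cone : CochainComplex (ModuleCat.{u} A) ℤ := mappingCone (f • 𝟙 K)

/-- First projection. -/
noncomputable abbrev p₁ (i j : ℤ) (h : i + 1 = j) : (cone K f).X i ⟶ K.X j :=
  (mappingCone.fst (f • 𝟙 K)).1.v i j h

/-- Second projection. -/
noncomputable abbrev p₂ (i : ℤ) : (cone K f).X i ⟶ K.X i :=
  (mappingCone.snd (f • 𝟙 K)).v i i (add_zero i)

/-- First inclusion. -/
noncomputable abbrev i₁ (i j : ℤ) (h : i + 1 = j) : K.X j ⟶ (cone K f).X i :=
  (mappingCone.inl (f • 𝟙 K)).v j i (by omega)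

/-- Second inclusion. -/
noncomputable abbrev i₂ (i : ℤ) : K.X i ⟶ (cone K f).X i := (mappingCone.inr (f • 𝟙 K)).f i

lemma p₁_d (i j k : ℤ) (hij : i + 1 = j) (hjk : j + 1 = k) (x : (cone K f).X i) :
    (p₁ K f j k hjk).hom (((cone K f).d i j).hom x) = -(K.d j k).hom ((p₁ K f i j hij).hom x) :=
  congrArg (fun g => g.hom x) (mappingCone.d_fst_v (f • 𝟙 K) i j k hij hjk)

lemma p₂_d (i j : ℤ) (hij : i + 1 = j) (x : (cone K f).X i) :
    (p₂ K f j).hom (((cone K f).d i j).hom x) =
      f • (p₁ K f i j hij).hom x + (K.d i j).hom ((p₂ K f i).hom x) :=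
  congrArg (fun g => g.hom x) (mappingCone.d_snd_v (f • 𝟙 K) i j hij)

lemma decomp (i j : ℤ) (h : i + 1 = j) (x : (cone K f).X i) :
    x = (i₁ K f i j h).hom ((p₁ K f i j h).hom x) + (i₂ K f i).hom ((p₂ K f i).hom x) :=
  (congrArg (fun g => g.hom x) (mappingCone.id_X (f • 𝟙 K) i j h)).symm

lemma p₁_i₁ (i j : ℤ) (h : i + 1 = j) (a : K.X j) : (p₁ K f i j h).hom ((i₁ K f i j h).hom a) = a :=
  congrArg (fun g => g.hom a) (mappingCone.inl_v_fst_v (f • 𝟙 K) j i h)

lemma p₂_i₁ (i j : ℤ) (h : i + 1 = j) (a : K.X j) : (p₂ K f i).hom ((i₁ K f i j h).hom a) = 0 :=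
  congrArg (fun g => g.hom a) (mappingCone.inl_v_snd_v (f • 𝟙 K) j i (by omega))

lemma p₁_i₂ (i j : ℤ) (h : i + 1 = j) (a : K.X i) : (p₁ K f i j h).hom ((i₂ K f i).hom a) = 0 :=
  congrArg (fun g => g.hom a) (mappingCone.inr_f_fst_v (f • 𝟙 K) i j h)

lemma p₂_i₂ (i : ℤ) (a : K.X i) : (p₂ K f i).hom ((i₂ K f i).hom a) = a :=
  congrArg (fun g => g.hom a) (mappingCone.inr_f_snd_v (f • 𝟙 K) i)

lemma cone_ext (i j : ℤ) (h : i + 1 = j) {x y : (cone K f).X i}
    (h₁ : (p₁ K f i j h).hom x = (p₁ K f i j h).hom y) (h₂ : (p₂ K f i).hom x = (p₂ K f i).hom y) :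
    x = y := by
  rw [decomp K f i j h x, decomp K f i j h y, h₁, h₂]

lemma d_d (i j k : ℤ) (x : K.X i) : (K.d j k).hom ((K.d i j).hom x) = 0 :=
  congrArg (fun g => g.hom x) (K.d_comp_d i j k)

end Cone

open CohIII

/-- The Koszul complex is concentrated in degrees `-r, …, 0`. -/
lemma isZero_out (M : ModuleCat.{u} A) : ∀ (fs : List A) (i : ℤ), 0 < i ∨ i + fs.length < 0 →
    IsZero ((koszulCx M fs).X i)
  | [], i, h => HomologicalComplex.isZero_single_obj_X _ _ _ _ (by simp at h; omega)
  | f :: fs, i, h => (mappingCone.isZero_X_iff (f • 𝟙 (koszulCx M fs)) i).2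
      ⟨isZero_out M fs (i + 1) (by simp at h ⊢; omega), isZero_out M fs i (by simp at h ⊢; omega)⟩

lemma eq_zero_out (M : ModuleCat.{u} A) (fs : List A) (i : ℤ) (h : 0 < i ∨ i + fs.length < 0)
    (x : (koszulCx M fs).X i) : x = 0 :=
  haveI := ModuleCat.subsingleton_of_isZero (isZero_out M fs i h)
  Subsingleton.elim _ _

/-- Members of the ideal kill the Koszul complex up to homotopy. -/
theorem nonempty_homotopy_of_mem (M : ModuleCat.{u} A) : ∀ (fs : List A) (a : A), a ∈ fs →
    Nonempty (Homotopy (a • 𝟙 (koszulCx M fs)) 0)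
  | [], a, h => absurd h List.not_mem_nil
  | f :: fs, a, h => by
      rcases List.mem_cons.1 h with rfl | h
      · exact nonempty_homotopy_cone_self (R := A) (koszulCx M fs) a
      · exact (nonempty_homotopy_of_mem M fs a h).elim (nonempty_homotopy_cone (R := A) (koszulCx M fs) f a)

theorem nonempty_homotopy_of_mem_span (M : ModuleCat.{u} A) (fs : List A) (a : A)
    (ha : a ∈ Ideal.span {x | x ∈ fs}) : Nonempty (Homotopy (a • 𝟙 (koszulCx M fs)) 0) := by
  induction ha using Submodule.span_induction with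
  | mem x hx => exact nonempty_homotopy_of_mem M fs x hx
  | zero => exact ⟨Homotopy.ofEq (zero_smul A _)⟩
  | add x y _ _ hx hy => exact ⟨(Homotopy.ofEq (add_smul x y _)).trans
      ((hx.some.add hy.some).trans (Homotopy.ofEq (add_zero 0)))⟩
  | smul c x _ hx => exact ⟨(Homotopy.ofEq (by rw [smul_eq_mul, mul_smul, Linear.smul_comp,
      Category.id_comp])).trans ((hx.some.compLeft (c • 𝟙 (koszulCx M fs))).trans
        (Homotopy.ofEq comp_zero))⟩

/-- The Koszul complex is exact when the elements generate the unit ideal. -/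
theorem isZero_homology_of_span_eq_top (M : ModuleCat.{u} A) (fs : List A)
    (h : Ideal.span {x | x ∈ fs} = ⊤) (i : ℤ) : IsZero ((koszulCx M fs).homology i) := by
  obtain ⟨H⟩ := nonempty_homotopy_of_mem_span M fs 1 (h ▸ Submodule.mem_top)
  rw [IsZero.iff_id_eq_zero, ← HomologicalComplex.homologyMap_id]
  have := H.homologyMap_eq i
  rw [one_smul, HomologicalComplex.homologyMap_zero] at this
  exact this

/-- The augmentation to the quotient in top degree. -/
theorem exists_augmentation (M : ModuleCat.{u} A) : ∀ fs : List A,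
    ∃ π : (koszulCx M fs).X 0 →ₗ[A] M ⧸ (Ideal.ofList fs • (⊤ : Submodule A M)),
      Function.Surjective π ∧ LinearMap.ker π = LinearMap.range ((koszulCx M fs).d (-1) 0).hom
  | [] => by
      let e := (HomologicalComplex.singleObjXSelf (ComplexShape.up ℤ) 0 M).toLinearEquiv
      refine ⟨(Submodule.mkQ _).comp e.toLinearMap, (Submodule.mkQ_surjective _).comp e.surjective, ?_⟩
      ext x
      change Submodule.Quotient.mk (e x) = 0 ↔ _
      rw [Submodule.Quotient.mk_eq_zero, Ideal.ofList_nil, Submodule.bot_smul, Submodule.mem_bot]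
      refine ⟨fun h => ⟨0, by rw [map_zero]; exact (e.map_eq_zero_iff.1 h).symm⟩, ?_⟩
      rintro ⟨y, rfl⟩
      rw [eq_zero_out M [] (-1) (Or.inr (by simp)) y, map_zero]
      exact map_zero e
  | f :: fs => by
      obtain ⟨π, hπ, hker⟩ := exists_augmentation M fs
      let K := koszulCx M fs
      have hle : Ideal.ofList fs • (⊤ : Submodule A M) ≤ Ideal.ofList (f :: fs) • ⊤ := by
        rw [Ideal.ofList_cons]
        exact Submodule.smul_mono_left le_sup_right
      let q := Submodule.factor hle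
      refine ⟨(q.comp π).comp (p₂ K f 0).hom,
        ((Submodule.factor_surjective hle).comp hπ).comp fun a => ⟨(i₂ K f 0).hom a, p₂_i₂ K f 0 a⟩, ?_⟩
      have h1 : ∀ x : (cone K f).X 0, (p₁ K f 0 1 (zero_add 1)).hom x = 0 :=
        fun x => eq_zero_out M fs 1 (Or.inl one_pos) _
      refine le_antisymm (fun x hx => ?_) ?_
      · obtain ⟨m, hm⟩ := Submodule.Quotient.mk_surjective _ (π ((p₂ K f 0).hom x))
        have hm' : m ∈ Ideal.ofList (f :: fs) • (⊤ : Submodule A M) := by
          have : q (π ((p₂ K f 0).hom x)) = 0 := hx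
          rw [← hm] at this
          exact (Submodule.Quotient.mk_eq_zero _).1 this
        rw [Ideal.ofList_cons, Submodule.sup_smul, Submodule.ideal_span_singleton_smul,
          Submodule.mem_sup] at hm'
        obtain ⟨_, hy, z, hz, rfl⟩ := hm'
        obtain ⟨y, -, rfl⟩ := (Submodule.mem_smul_pointwise_iff_exists _ _ _).1 hy
        obtain ⟨a, ha⟩ := hπ (Submodule.Quotient.mk y)
        have : (p₂ K f 0).hom x - f • a ∈ LinearMap.ker π := by
          rw [LinearMap.mem_ker, map_sub, map_smul, ha, ← hm, ← Submodule.Quotient.mk_smul,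
            ← Submodule.Quotient.mk_sub, add_sub_cancel_left, Submodule.Quotient.mk_eq_zero]
          exact hz
        rw [hker] at this
        obtain ⟨c, hc⟩ := this
        refine ⟨(i₁ K f (-1) 0 (by norm_num)).hom a + (i₂ K f (-1)).hom c,
          cone_ext K f 0 1 (zero_add 1) ((h1 _).trans (h1 x).symm) ?_⟩
        refine (p₂_d K f (-1) 0 (by norm_num) _).trans ?_
        rw [map_add, map_add, p₁_i₁, p₁_i₂, p₂_i₁, p₂_i₂, add_zero, zero_add, hc, add_sub_cancel]
      · rintro _ ⟨y, rfl⟩
        change q (π ((p₂ K f 0).hom (((cone K f).d (-1) 0).hom y))) = 0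
        erw [p₂_d K f (-1) 0 (by norm_num)]
        rw [map_add, map_smul]
        have hd : π ((K.d (-1) 0).hom ((p₂ K f (-1)).hom y)) = 0 := by
          rw [← LinearMap.mem_ker, hker]; exact ⟨_, rfl⟩
        erw [hd]
        rw [add_zero]
        obtain ⟨m, hm⟩ := Submodule.Quotient.mk_surjective _ (π ((p₁ K f (-1) 0 (by norm_num)).hom y))
        rw [← hm, ← Submodule.Quotient.mk_smul]
        exact (Submodule.Quotient.mk_eq_zero _).2 (Submodule.smul_mem_smul
          (by rw [Ideal.ofList_cons]; exact Ideal.mem_sup_left (Ideal.mem_span_singleton_self f)) trivial)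

/-- Top cohomology. -/
theorem nonempty_homology_zero_equiv (M : ModuleCat.{u} A) (fs : List A) :
    Nonempty (((koszulCx M fs).homology 0 : Type u) ≃ₗ[A] M ⧸ (Ideal.ofList fs • (⊤ : Submodule A M))) := by
  obtain ⟨π, hπ, hker⟩ := exists_augmentation M fs
  let S := (koszulCx M fs).sc' (-1) 0 1
  let π' := π.comp (LinearMap.ker S.g.hom).subtype
  have hs : Function.Surjective π' := fun z =>
    let ⟨x, hx⟩ := hπ z
    ⟨⟨x, eq_zero_out M fs 1 (Or.inl one_pos) _⟩, hx⟩
  have hk : LinearMap.ker π' = LinearMap.range S.moduleCatToCycles := by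
    ext x
    refine ⟨fun h => ?_, ?_⟩
    · have h' : x.1 ∈ LinearMap.ker π := h
      rw [hker] at h'
      obtain ⟨y, hy⟩ := h'
      exact ⟨y, Subtype.ext hy⟩
    · rintro ⟨y, rfl⟩
      show π _ = 0
      rw [← LinearMap.mem_ker, hker]
      exact ⟨y, rfl⟩
  exact ⟨((koszulCx M fs).homologyIsoSc' (-1) 0 1 (by simp) (by simp) ≪≫
    S.moduleCatHomologyIso).toLinearEquiv.trans
      ((Submodule.quotEquivOfEq _ _ hk.symm).trans (π'.quotKerEquivOfSurjective hs))⟩

section Map

section General

variable {C : Type*} [Category C] [Preadditive C] [HasBinaryBiproducts C]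
  {K₁ L₁ K₂ L₂ : CochainComplex C ℤ} (φ₁ : K₁ ⟶ L₁) (φ₂ : K₂ ⟶ L₂) (a : K₁ ⟶ K₂) (b : L₁ ⟶ L₂)
  (comm : φ₁ ≫ b = a ≫ φ₂)

lemma map_fst (i j : ℤ) (h : i + 1 = j) :
    (mappingCone.map φ₁ φ₂ a b comm).f i ≫ (mappingCone.fst φ₂).1.v i j h =
      (mappingCone.fst φ₁).1.v i j h ≫ a.f j := by
  simp [mappingCone.ext_from_iff _ j i h, mappingCone.map]

lemma map_snd (i : ℤ) :
    (mappingCone.map φ₁ φ₂ a b comm).f i ≫ (mappingCone.snd φ₂).v i i (add_zero i) =
      (mappingCone.snd φ₁).v i i (add_zero i) ≫ b.f i := by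
  simp [mappingCone.ext_from_iff _ (i + 1) i rfl, mappingCone.map]

end General

variable {M N : ModuleCat.{u} A} (g : M ⟶ N)

/-- Functoriality in the module. -/
noncomputable def kmap : ∀ fs : List A, koszulCx M fs ⟶ koszulCx N fs
  | [] => (HomologicalComplex.single (ModuleCat.{u} A) (ComplexShape.up ℤ) 0).map g
  | f :: fs => mappingCone.map (f • 𝟙 _) (f • 𝟙 _) (kmap fs) (kmap fs) (by
      simp [Linear.smul_comp, Linear.comp_smul])

lemma p₁_kmap (f : A) (fs : List A) (i j : ℤ) (h : i + 1 = j) (x : (cone (koszulCx M fs) f).X i) :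
    (p₁ (koszulCx N fs) f i j h).hom (((kmap g (f :: fs)).f i).hom x) =
      ((kmap g fs).f j).hom ((p₁ (koszulCx M fs) f i j h).hom x) := by
  suffices H : (kmap g (f :: fs)).f i ≫ p₁ (koszulCx N fs) f i j h =
      p₁ (koszulCx M fs) f i j h ≫ (kmap g fs).f j from congrArg (fun g => g.hom x) H
  exact map_fst _ _ _ _ _ i j h

lemma p₂_kmap (f : A) (fs : List A) (i : ℤ) (x : (cone (koszulCx M fs) f).X i) :
    (p₂ (koszulCx N fs) f i).hom (((kmap g (f :: fs)).f i).hom x) =
      ((kmap g fs).f i).hom ((p₂ (koszulCx M fs) f i).hom x) := by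
  suffices H : (kmap g (f :: fs)).f i ≫ p₂ (koszulCx N fs) f i =
      p₂ (koszulCx M fs) f i ≫ (kmap g fs).f i from congrArg (fun g => g.hom x) H
  exact map_snd _ _ _ _ _ i

lemma kmap_surjective (hg : Function.Surjective g.hom) : ∀ (fs : List A) (i : ℤ),
    Function.Surjective ((kmap g fs).f i).hom
  | [], i => by
      by_cases h : i = 0
      · subst h
        intro y
        obtain ⟨m, hm⟩ := hg ((HomologicalComplex.singleObjXSelf (ComplexShape.up ℤ) 0 N).hom.hom y)
        refine ⟨(HomologicalComplex.singleObjXSelf (ComplexShape.up ℤ) 0 M).inv.hom m, ?_⟩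
        have hs := HomologicalComplex.single_map_f_self (ComplexShape.up ℤ) (0 : ℤ) g
        change (((HomologicalComplex.single (ModuleCat.{u} A) (ComplexShape.up ℤ) 0).map g).f 0).hom _ = y
        rw [hs]
        simp [hm]
      · intro y
        exact ⟨0, by rw [map_zero, eq_zero_out N [] i (by simp; omega) y]⟩
  | f :: fs, i => fun y => by
      obtain ⟨a, ha⟩ := kmap_surjective hg fs (i + 1) ((p₁ (koszulCx N fs) f i (i + 1) rfl).hom y)
      obtain ⟨b, hb⟩ := kmap_surjective hg fs i ((p₂ (koszulCx N fs) f i).hom y)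
      refine ⟨(i₁ (koszulCx M fs) f i (i + 1) rfl).hom a + (i₂ (koszulCx M fs) f i).hom b,
        cone_ext _ _ i (i + 1) rfl ?_ ?_⟩
      · rw [p₁_kmap, map_add, p₁_i₁, p₁_i₂, add_zero, ha]
      · rw [p₂_kmap, map_add, p₂_i₁, p₂_i₂, zero_add, hb]

lemma mem_smul_of_kmap_eq_zero (c : A) (hg : ∀ m, g.hom m = 0 → ∃ m', c • m' = m) :
    ∀ (fs : List A) (i : ℤ) (x : (koszulCx M fs).X i), ((kmap g fs).f i).hom x = 0 →
      ∃ x', c • x' = x
  | [], i, x, hx => by
      by_cases h : i = 0
      · subst h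
        let e := HomologicalComplex.singleObjXSelf (ComplexShape.up ℤ) 0 M
        have hs := HomologicalComplex.single_map_f_self (ComplexShape.up ℤ) (0 : ℤ) g
        change (((HomologicalComplex.single (ModuleCat.{u} A) (ComplexShape.up ℤ) 0).map g).f 0).hom x = 0 at hx
        rw [hs] at hx
        have hx' := congrArg (HomologicalComplex.singleObjXSelf (ComplexShape.up ℤ) 0 N).hom.hom hx
        simp at hx'
        obtain ⟨m', hm'⟩ := hg (e.hom.hom x) hx'
        refine ⟨e.inv.hom m', (e.inv.hom.map_smul c m').symm.trans ?_⟩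
        exact (congrArg e.inv.hom hm').trans (e.hom_inv_id_apply x)
      · exact ⟨0, by rw [smul_zero, eq_zero_out M [] i (by simp; omega) x]⟩
  | f :: fs, i, (x : (cone (koszulCx M fs) f).X i), hx => by
      obtain ⟨a, ha⟩ := mem_smul_of_kmap_eq_zero c hg fs (i + 1) ((p₁ (koszulCx M fs) f i (i + 1) rfl).hom x)
        ((p₁_kmap g f fs i (i + 1) rfl x).symm.trans ((congrArg _ hx).trans (map_zero _)))
      obtain ⟨b, hb⟩ := mem_smul_of_kmap_eq_zero c hg fs i ((p₂ (koszulCx M fs) f i).hom x)
        ((p₂_kmap g f fs i x).symm.trans ((congrArg _ hx).trans (map_zero _)))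
      refine ⟨(i₁ (koszulCx M fs) f i (i + 1) rfl).hom a + (i₂ (koszulCx M fs) f i).hom b, ?_⟩
      change c • (show (cone (koszulCx M fs) f).X i from _) = x
      rw [smul_add, ← map_smul, ← map_smul, ha, hb]
      exact (decomp _ _ i (i + 1) rfl x).symm

lemma smul_eq_zero_kcx (c : A) (hc : ∀ m : M, c • m = 0 → m = 0) :
    ∀ (fs : List A) (i : ℤ) (x : (koszulCx M fs).X i), c • x = 0 → x = 0
  | [], i, x, hx => by
      by_cases h : i = 0
      · subst h
        let e := (HomologicalComplex.singleObjXSelf (ComplexShape.up ℤ) 0 M).toLinearEquiv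
        exact e.map_eq_zero_iff.1 (hc _ ((e.map_smul c x).symm.trans ((congrArg e hx).trans (map_zero e))))
      · exact eq_zero_out M [] i (by simp; omega) x
  | f :: fs, i, (x : (cone (koszulCx M fs) f).X i), hx => cone_ext _ _ i (i + 1) rfl
      ((smul_eq_zero_kcx c hc fs _ _ (((p₁ (koszulCx M fs) f i (i + 1) rfl).hom.map_smul c x).symm.trans
        ((congrArg _ hx).trans (map_zero _)))).trans (map_zero _).symm)
      ((smul_eq_zero_kcx c hc fs _ _ (((p₂ (koszulCx M fs) f i).hom.map_smul c x).symm.trans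
        ((congrArg _ hx).trans (map_zero _)))).trans (map_zero _).symm)

end Map

lemma smul_zero_of_quot {M : ModuleCat.{u} A} (f : A) : ∀ (fs : List A) (p : ℤ)
    (w : (koszulCx (ModuleCat.of A (QuotSMulTop f M)) fs).X p), f • w = 0
  | [], p, w => by
      by_cases h : p = 0
      · subst h
        let e := (HomologicalComplex.singleObjXSelf (ComplexShape.up ℤ) 0
          (ModuleCat.of A (QuotSMulTop f M))).toLinearEquiv
        refine e.map_eq_zero_iff.1 ((e.map_smul f w).trans ?_)
        obtain ⟨m, hm⟩ := Submodule.Quotient.mk_surjective _ (e w)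
        refine (congrArg (f • ·) hm.symm).trans ((Submodule.Quotient.mk_smul _ f m).symm.trans ?_)
        exact (Submodule.Quotient.mk_eq_zero _).2 (Submodule.smul_mem_pointwise_smul m f ⊤ trivial)
      · rw [eq_zero_out _ [] p (by simp; omega) w, smul_zero]
  | g :: fs, p, (w : (cone (koszulCx (ModuleCat.of A (QuotSMulTop f M)) fs) g).X p) =>
      cone_ext _ _ p (p + 1) rfl
        (((p₁ _ g p (p + 1) rfl).hom.map_smul f w).trans
          ((smul_zero_of_quot f fs _ _).trans (map_zero _).symm))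
        (((p₂ _ g p).hom.map_smul f w).trans ((smul_zero_of_quot f fs _ _).trans (map_zero _).symm))

/-- Exactness below the top degree for a weakly regular sequence. -/
theorem exact_of_isWeaklyRegular : ∀ (fs : List A) (M : ModuleCat.{u} A), IsWeaklyRegular M fs →
    ∀ i j k : ℤ, i + 1 = j → j + 1 = k → j ≠ 0 → ∀ x : (koszulCx M fs).X j,
      ((koszulCx M fs).d j k).hom x = 0 → ∃ y, ((koszulCx M fs).d i j).hom y = x
  | [], M, _, i, j, k, _, _, hj, x, _ =>
      ⟨0, by rw [map_zero, eq_zero_out M [] j (by simp; omega) x]⟩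
  | f :: fs, M, hreg, i, j, k, hij, hjk, hj, x, hx => by
      by_cases hpos : 0 < j
      · exact ⟨0, by rw [map_zero, eq_zero_out M (f :: fs) j (Or.inl hpos) x]⟩
      obtain ⟨hf, hrest⟩ := (isWeaklyRegular_cons_iff _ _ _).1 hreg
      let N := ModuleCat.of A (QuotSMulTop f M)
      let g : M ⟶ N := ModuleCat.ofHom (Submodule.mkQ _)
      have hg : ∀ m, g.hom m = 0 → ∃ m', f • m' = m := fun m hm => by
        obtain ⟨m', -, h⟩ := (Submodule.mem_smul_pointwise_iff_exists _ _ _).1
          ((Submodule.Quotient.mk_eq_zero _).1 hm)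
        exact ⟨m', h⟩
      let K := koszulCx M fs
      let a := (p₁ K f j k hjk).hom x
      let b := (p₂ K f j).hom x
      have h2 : f • a + (K.d j k).hom b = 0 := by
        have := p₂_d K f j k hjk x
        erw [hx, map_zero] at this
        exact this.symm
      have hnat : ∀ (p q : ℤ) (z : K.X p), ((kmap g fs).f q).hom ((K.d p q).hom z) =
          ((koszulCx N fs).d p q).hom (((kmap g fs).f p).hom z) := fun p q z =>
        congrArg (fun h => h.hom z) ((kmap g fs).comm p q).symm
      have hfN : ∀ (p : ℤ) (z : K.X p), ((kmap g fs).f p).hom (f • z) = 0 := fun p z => by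
        rw [map_smul]
        obtain ⟨w, hw⟩ : ∃ w, ((kmap g fs).f p).hom z = w := ⟨_, rfl⟩
        rw [hw]
        refine smul_zero_of_quot (M := M) f fs p w
      have hb : ((koszulCx N fs).d j k).hom (((kmap g fs).f j).hom b) = 0 := by
        rw [← hnat, eq_neg_of_add_eq_zero_right h2, map_neg, hfN, neg_zero]
      obtain ⟨c, hc⟩ := exact_of_isWeaklyRegular fs N hrest i j k hij hjk hj _ hb
      obtain ⟨c', rfl⟩ := kmap_surjective g (Submodule.mkQ_surjective _) fs i c
      obtain ⟨e, he⟩ := mem_smul_of_kmap_eq_zero g f hg fs j (b - (K.d i j).hom c')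
        (by rw [map_sub, hnat, hc, sub_self])
      have hce : b = (K.d i j).hom c' + f • e := by rw [he]; abel
      have h3 : a + (K.d j k).hom e = 0 := by
        refine smul_eq_zero_kcx f (fun m hm => hf (hm.trans (smul_zero f).symm)) fs k _ ?_
        rw [hce, map_add, d_d K i j k, zero_add, map_smul] at h2
        rwa [smul_add]
      refine ⟨(i₁ K f i j hij).hom e + (i₂ K f i).hom c', cone_ext K f j k hjk ?_ ?_⟩
      · refine (p₁_d K f i j k hij hjk _).trans ?_
        rw [map_add, p₁_i₁, p₁_i₂, add_zero]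
        exact neg_eq_of_add_eq_zero_left h3
      · refine (p₂_d K f i j hij _).trans ?_
        rw [map_add, map_add, p₁_i₁, p₁_i₂, p₂_i₁, p₂_i₂, add_zero, zero_add]
        exact (add_comm _ _).trans hce.symm

/-- Vanishing of the Koszul cohomology below the top degree. -/
theorem isZero_homology_of_isWeaklyRegular (M : ModuleCat.{u} A) (fs : List A)
    (h : IsWeaklyRegular M fs) (j : ℤ) (hj : j ≠ 0) : IsZero ((koszulCx M fs).homology j) := by
  rw [← HomologicalComplex.exactAt_iff_isZero_homology,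
    HomologicalComplex.exactAt_iff' _ (j - 1) j (j + 1) (by simp) (by simp),
    ShortComplex.moduleCat_exact_iff]
  exact fun x hx => exact_of_isWeaklyRegular fs M h (j - 1) j (j + 1) (by omega) rfl hj x hx

end GrothLib.KoszulMod
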